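import Cfsg.Agent.H363.IFO.Rgd
import Cfsg.Agent.KFacts.RgdTau
import Cfsg.Agent.H460.IFO.Base

/-!
# S5719, `q` even: semilinear involutions on root groups, the roots, the assembly (helper363)

* `card_range` : `|F| ≤ |{a + d * τ a}| ^ 2`, `τ ≠ 1` a field automorphism, characteristic two;
* `card_semi` : the same on a root group;
* `rep_ev` : explicit roots;
* `peel_simple` : `∏ |X (sr i)| * |⟨X a : ht a > 1⟩| ≤ |U|`;
* `dat_of` : the data of an automorphism fixing the nodes up to the permutation `σ`;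
* `false_of_fix` : the assembly.
-/

set_option autoImplicit false
set_option linter.unusedSectionVars false

namespace Cfsg.Agent.H363.IFO

open Subgroup CoxeterSystem Cfsg.Agent.ChevalleyStructure.CoxeterGeom Cfsg.Agent.Tits.Core
  Cfsg.Agent.Nodes.Reps Cfsg.Agent.Nodes.BNOf Cfsg.Agent.Nodes.NormalForm Cfsg.Agent.Nodes
  Cfsg.Agent.KFacts.RgdFilt Cfsg.Agent.KFacts.RgdBorelTits Cfsg.Agent.OddHalf.D4.StarLoc
  Cfsg.Agent.KFacts.RgdAut Cfsg.Agent.KFacts.RgdDiag Cfsg.Agent.KFacts.RgdField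
open Cfsg.Agent.Tits.Roots hiding ht
open Cfsg.Agent.OddHalf.D4.LineRgd (ht ht_pos ht_apply)
open scoped commutatorElement

/-! ### counting -/

section Count

variable {F : Type*} [Field F] [Finite F]

/-- the fixed field of a nontrivial automorphism -/
theorem card_fixed_sq {τ : F →+* F} (hτ : ∃ a, τ a ≠ a) :
    Nat.card {a : F // τ a = a} * Nat.card {a : F // τ a = a} ≤ Nat.card F := by
  let K₀ : Subfield F := τ.eqLocusField (RingHom.id F)
  have h1 : Nat.card {a : F // τ a = a} = Nat.card K₀ := rfl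
  obtain ⟨b, hb⟩ := hτ
  rw [h1, ← Nat.card_prod]
  refine Nat.card_le_card_of_injective (fun z : K₀ × K₀ => (z.1 : F) + (z.2 : F) * b) ?_
  rintro ⟨x, y⟩ ⟨x', y'⟩ h
  have h2 : (x : F) + y * b = x' + y' * b := h
  have hf : ∀ z : K₀, τ (z : F) = z := fun z => z.2
  have h3 : (y : F) = y' := by
    by_contra hne
    apply hb
    have h4 : b = ((x' : F) - x) / (y - y') := by
      rw [eq_div_iff (sub_ne_zero.2 hne)]
      linear_combination h2
    rw [h4, map_div₀, map_sub, map_sub, hf, hf, hf, hf]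
  have h4 : (x : F) = x' := by rw [h3] at h2; exact add_right_cancel h2
  rw [Subtype.ext h3, Subtype.ext h4]

/-- **The image of `1 + d τ`.** -/
theorem card_range {τ : F →+* F} (hτ : ∃ a, τ a ≠ a) (d : F) :
    Nat.card F ≤ Nat.card {b : F // ∃ a, b = a - d * τ a} * Nat.card {b : F // ∃ a, b = a - d * τ a} := by
  let ν : F →+ F := AddMonoidHom.mk' (fun a => a - d * τ a) (fun a b => by rw [map_add]; ring)
  have hr : Nat.card {b : F // ∃ a, b = a - d * τ a} = Nat.card ν.range := by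
    refine Nat.card_congr (Equiv.subtypeEquivRight fun b => ?_)
    constructor
    · rintro ⟨a, rfl⟩
      exact ⟨a, rfl⟩
    · rintro ⟨a, rfl⟩
      exact ⟨a, rfl⟩
  have hk : Nat.card ν.ker ≤ Nat.card {a : F // τ a = a} := by
    by_cases h0 : ∃ b ∈ ν.ker, b ≠ 0
    · obtain ⟨b, hb, hb0⟩ := h0
      have hb' : b - d * τ b = 0 := hb
      refine Nat.card_le_card_of_injective (fun a : ν.ker => (⟨(a : F) / b, ?_⟩ : {a : F // τ a = a})) ?_
      · have ha : (a : F) - d * τ a = 0 := a.2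
        rw [map_div₀, div_eq_div_iff (fun h => hb0 ((map_eq_zero τ).1 h)) hb0]
        have h1 : b = d * τ b := by linear_combination hb'
        have h2 : (a : F) = d * τ a := by linear_combination ha
        calc τ a * b = τ a * (d * τ b) := by rw [← h1]
          _ = (d * τ a) * τ b := by ring
          _ = a * τ b := by rw [← h2]
      · intro a a' h
        have h1 : (a : F) / b = a' / b := congrArg Subtype.val h
        exact Subtype.ext ((div_left_inj' hb0).1 h1)
    · have h1 : ν.ker = ⊥ := by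
        rw [eq_bot_iff]
        intro b hb
        by_contra hne
        exact h0 ⟨b, hb, hne⟩
      have : Nonempty {a : F // τ a = a} := ⟨⟨0, map_zero τ⟩⟩
      rw [h1, AddSubgroup.card_bot]
      exact Nat.card_pos
  have hc : Nat.card F = Nat.card ν.ker * Nat.card ν.range := by
    rw [← AddSubgroup.card_mul_index ν.ker, AddSubgroup.index_ker]
  have h2 := card_fixed_sq hτ
  set f := Nat.card {a : F // τ a = a} with hf
  rw [hr]
  have hfpos : 0 < f := by
    have : Nonempty {a : F // τ a = a} := ⟨⟨0, map_zero τ⟩⟩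
    exact Nat.card_pos
  have h3 : f * f ≤ f * Nat.card ν.range := by
    calc f * f ≤ Nat.card F := h2
      _ = Nat.card ν.ker * Nat.card ν.range := hc
      _ ≤ _ := Nat.mul_le_mul_right _ hk
  have h4 : f ≤ Nat.card ν.range := Nat.le_of_mul_le_mul_left h3 hfpos
  rw [hc]
  exact Nat.mul_le_mul_right _ (hk.trans h4)

end Count

/-! ### explicit roots -/

section Ev

variable {I : Type*} [Fintype I] [DecidableEq I]

/-- the root of a word -/
def ev (A : I → I → ℤ) (i : I) : List I → (I → ℤ)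
  | [] => sr i
  | j :: ω => ev A i ω - pairing A j (ev A i ω) • sr j

theorem rep_ev {W : Type*} [Group W] {M : CoxeterMatrix I} (cs : CoxeterSystem M W) {A : I → I → ℤ}
    (h : IsCartan M A) (i : I) (ω : List I) : rep cs h (cs.wordProd ω) (sr i) = ev A i ω := by
  induction ω with
  | nil => rw [wordProd_nil, map_one]; rfl
  | cons j ω ih => rw [wordProd_cons, rep_mul_apply, ih, rep_simple_eq]; rfl

end Ev

universe v

variable {I W : Type*} {Y : Type v} [Fintype I] [DecidableEq I] [Group W] [Group Y] {M : CoxeterMatrix I}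
  {cs : CoxeterSystem M W} {A : I → I → ℤ} {h : IsCartan M A} {p : ℕ} {T : Subgroup Y} {n : I → Y}
  {X : (I → ℤ) → Subgroup Y}

theorem ht_sr (i : I) : ht (sr i : I → ℤ) = 1 := by
  rw [ht_apply]
  unfold sr
  rw [Finset.sum_pi_single']
  simp

theorem sr_pos (i : I) : (sr i : I → ℤ) ∈ RGD.Pos cs h := ⟨isRoot_sr cs h i, sr_nonneg i⟩

/-- **The simple root groups.** -/
theorem peel_simple [Finite W] [Finite Y] (R : RGD cs h p T n X) (hI : IntComm cs h X) (s : Finset I) :
    (∏ i ∈ s, Nat.card (X (sr i))) * Nat.card (RGD.Sup X {x | x ∈ RGD.Pos cs h ∧ ∀ i ∈ s, x ≠ sr i}) ≤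
      Nat.card (RGD.Sup X (RGD.Pos cs h)) := by
  classical
  induction s using Finset.induction_on with
  | empty =>
    rw [Finset.prod_empty, one_mul]
    exact Subgroup.card_le_of_le (RGD.Sup_mono fun x hx => hx.1)
  | insert j s hj ih =>
    have hS : Up cs h {x | x ∈ RGD.Pos cs h ∧ ∀ i ∈ s, x ≠ sr i} := by
      refine ⟨fun x hx => hx.1, ?_⟩
      rintro x ⟨hx, -⟩ t ht' hlt
      refine ⟨ht', ?_⟩
      rintro i hi rfl
      rw [ht_sr] at hlt
      have := ht_pos' hx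
      omega
    have h1 := peel R hI hS (x := sr j) ⟨sr_pos j, fun i hi he => by
      have h2 := congrFun he i
      by_cases hij : i = j
      · subst hij
        exact hj hi
      · rw [sr_ne hij, sr_self] at h2
        exact zero_ne_one h2⟩ (by
        rintro y ⟨hy, -⟩
        rw [ht_sr]
        have := ht_pos' hy
        omega)
    have h2 : {x | x ∈ RGD.Pos cs h ∧ ∀ i ∈ s, x ≠ sr i} \ {sr j} =
        {x | x ∈ RGD.Pos cs h ∧ ∀ i ∈ insert j s, x ≠ sr i} := by
      ext x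
      simp only [Set.mem_sdiff, Set.mem_ofPred_eq, Set.mem_singleton_iff, Finset.mem_insert, forall_eq_or_imp]
      tauto
    rw [h2] at h1
    rw [Finset.prod_insert hj]
    calc Nat.card (X (sr j)) * (∏ i ∈ s, Nat.card (X (sr i))) *
          Nat.card (RGD.Sup X {x | x ∈ RGD.Pos cs h ∧ ∀ i ∈ insert j s, x ≠ sr i})
        = (∏ i ∈ s, Nat.card (X (sr i))) * (Nat.card (X (sr j)) *
          Nat.card (RGD.Sup X {x | x ∈ RGD.Pos cs h ∧ ∀ i ∈ insert j s, x ≠ sr i})) := by ring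
      _ ≤ (∏ i ∈ s, Nat.card (X (sr i))) * Nat.card (RGD.Sup X {x | x ∈ RGD.Pos cs h ∧ ∀ i ∈ s, x ≠ sr i}) :=
          Nat.mul_le_mul_left _ h1
      _ ≤ _ := ih

theorem peel_all [Finite W] [Finite Y] (R : RGD cs h p T n X) (hI : IntComm cs h X) :
    (∏ i, Nat.card (X (sr i))) * Nat.card (RGD.Sup X (Gt cs h 1)) ≤ Nat.card (RGD.Sup X (RGD.Pos cs h)) := by
  refine le_trans (Nat.mul_le_mul_left _ (Subgroup.card_le_of_le (RGD.Sup_mono ?_))) (peel_simple R hI Finset.univ)
  rintro x ⟨hx, hx1⟩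
  refine ⟨hx, ?_⟩
  rintro i - rfl
  rw [ht_sr] at hx1
  exact lt_irrefl _ hx1

/-! ### the data -/

theorem dat_of [Finite W] (R : RGD cs h p T n X) {β : MulAut Y} {σ : Equiv.Perm I} (D : Diag T X β σ)
    (hA : ∀ i j, A (σ i) (σ j) = A i j) (hσ : σ * σ = 1) (hI : IntComm cs h X)
    (hab : ∀ x ∈ RGD.Pos cs h, ∀ a ∈ X x, ∀ b ∈ X x, a * b = b * a) (hsq : ∀ x ∈ RGD.Pos cs h, ∀ a ∈ X x, a * a = 1)
    {u : Y} (hu : u ∈ RGD.Sup X (RGD.Pos cs h)) (hinv : ∀ y, u * β (u * β y * u⁻¹) * u⁻¹ = y) :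
    Dat cs h X β.toMonoidHom u (fun r => r ∘ σ.symm) where
  hI := hI
  ab := hab
  sq := hsq
  hu := hu
  pos := by
    rintro x ⟨hx, h0⟩
    refine ⟨?_, fun i => h0 _⟩
    obtain ⟨w, i, rfl⟩ := hx
    rw [← rep_hat (D.matrix R) hA, sr_comp]
    exact ⟨_, _, rfl⟩
  hh := by
    intro x _
    rw [ht_apply, ht_apply]
    exact Equiv.sum_comp σ.symm x
  pp := by
    intro x _
    funext i
    show x (σ.symm (σ.symm i)) = x i
    congr 1
    have h1 : σ (σ i) = i := by rw [← Equiv.Perm.mul_apply, hσ]; rfl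
    rw [Equiv.symm_apply_eq, Equiv.symm_apply_eq, h1]
  be := by
    intro x hx a ha
    exact (D.root_comp R hA hx.1 a).2 ha
  inv := hinv

/-- **Semilinear action on all root groups.** -/
theorem semi_root [Finite W] (R : RGD cs h p T n X) {F : Type*} [Field F] {β : MulAut Y} (D : Diag T X β 1) {i : I}
    {xi : F → Y} {χ : Y → F} (C : Coord T (X (sr i)) xi χ) (w : W) :
    ∃ (g : Y) (τ : F ≃+* F) (d : F), (∀ a, β (g * xi a * g⁻¹) = g * xi (d * τ a) * g⁻¹) ∧
      (∀ a, g * xi a * g⁻¹ ∈ X (rep cs h w (sr i))) ∧ ∀ t ∈ T, χ (β t) = τ (χ t) := by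
  obtain ⟨τ', c, hc, hx, hch⟩ := C.exists_semi C D.tor (D.pos i)
  obtain ⟨g, hg⟩ := exists_rp cs R.nsys w
  have hσ : ∀ a b : I, M ((1 : Equiv.Perm I) a) ((1 : Equiv.Perm I) b) = M a b := fun _ _ => rfl
  have hg' := D.rp' (R := R) hσ hg
  have hhat : hat cs 1 hσ w = w := by
    have h2 : hat cs 1 hσ = MonoidHom.id W := by
      apply cs.ext_simple
      intro a
      rw [hat_simple]
      rfl
    rw [h2]
    rfl
  rw [hhat] at hg'
  obtain ⟨s, hs⟩ : ∃ s, s = g⁻¹ * β g := ⟨_, rfl⟩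
  have hsT : s ∈ T := by rw [hs]; exact hg.unique hg'
  have hβg : β g = g * s := by rw [hs]; group
  refine ⟨g, τ', χ s * c, fun a => ?_, fun a => ?_, hch⟩
  · rw [map_mul, map_mul, map_inv, hβg, hx a]
    have e : g * s * xi (c * τ' a) * (g * s)⁻¹ = g * (s * xi (c * τ' a) * s⁻¹) * g⁻¹ := by group
    rw [e, C.act s hsT, ← mul_assoc (χ s) c (τ' a)]
  · rw [← R.conj_rp hg (isRoot_sr cs h i), mem_cj]
    have e : g⁻¹ * (g * xi a * g⁻¹) * g = xi a := by group
    rw [e]
    exact (C.mem _).2 ⟨a, rfl⟩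

/-- **The image of `1 + β` on a root group.** -/
theorem card_semi [Finite W] [Finite Y] (R : RGD cs h p T n X) {F : Type*} [Field F] [Finite F] (h2 : (2 : F) = 0)
    {β : MulAut Y} (D : Diag T X β 1) {i : I} {xi : F → Y} {χ : Y → F} (C : Coord T (X (sr i)) xi χ)
    (hne : ∃ t ∈ T, χ (β t) ≠ χ t) (w : W) {q : ℕ} (hq : q * q ≤ Nat.card F) :
    q ≤ Nat.card {y : Y // ∃ a ∈ X (rep cs h w (sr i)), y = a * β a} := by
  obtain ⟨g, τ, d, h3, h4, h5⟩ := semi_root R D C w
  have hτ : ∃ a, (τ : F →+* F) a ≠ a := by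
    obtain ⟨t, ht', hne⟩ := hne
    exact ⟨χ t, fun he => hne (by rw [h5 t ht']; exact he)⟩
  have h6 := card_range hτ d
  have h7 : Nat.card {b : F // ∃ a, b = a - d * (τ : F →+* F) a} ≤
      Nat.card {y : Y // ∃ a ∈ X (rep cs h w (sr i)), y = a * β a} := by
    refine Nat.card_le_card_of_injective (fun b => ⟨g * xi b.1 * g⁻¹, ?_⟩) ?_
    · obtain ⟨a, ha⟩ := b.2
      refine ⟨_, h4 a, ?_⟩
      have e : b.1 = a + d * τ a := by
        rw [ha]
        have h8 : ((τ : F →+* F) a) = τ a := rfl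
        rw [h8]
        linear_combination (-(d * τ a)) * h2
      rw [h3, e, C.add]
      group
    · intro b b' hb
      have h8 : g * xi b.1 * g⁻¹ = g * xi b'.1 * g⁻¹ := congrArg Subtype.val hb
      exact Subtype.ext (C.inj (mul_left_cancel (mul_right_cancel h8)))
  have h8 : q * q ≤ Nat.card {y : Y // ∃ a ∈ X (rep cs h w (sr i)), y = a * β a} *
      Nat.card {y : Y // ∃ a ∈ X (rep cs h w (sr i)), y = a * β a} := hq.trans (h6.trans (Nat.mul_le_mul h7 h7))
  exact Nat.mul_self_le_mul_self_iff.1 h8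

/-! ### the assembly -/

/-- **The assembly**: `s = g⁻¹ σ g`, `s y = u * β y * u⁻¹`. -/
theorem false_of_fix [Finite Y] {B : Subgroup Y} {Γ : Subgroup (MulAut Y)} (hIF : Cfsg.Agent.H209.Fxy.IF B Γ)
    (hO : Odd (Nat.card B)) {s : MulAut Y} (hs : s ∈ Γ) (h2 : orderOf s = 2) {U : Subgroup Y} (hU : IsPGroup 2 U)
    (g : Y) {t : Y →* Y} (ht : ∀ y, t y = g⁻¹ * s (g * y * g⁻¹) * g) {N : ℕ} (hN : N ≤ FF t U ⊥)
    (hT : Nat.card Y ≤ N ^ 6) : False := by
  let K : Subgroup Y :=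
    { carrier := {u | u ∈ U ∧ t u = u}
      one_mem' := ⟨one_mem _, map_one t⟩
      mul_mem' := by
        rintro a b ⟨h1, h3⟩ ⟨h4, h5⟩
        exact ⟨mul_mem h1 h4, by rw [map_mul, h3, h5]⟩
      inv_mem' := by
        rintro a ⟨h1, h3⟩
        exact ⟨inv_mem h1, by rw [map_inv, h3]⟩ }
  have hK : Nat.card K = FF t U ⊥ := by
    refine Nat.card_congr (Equiv.subtypeEquivRight fun u => ?_)
    rw [Subgroup.mem_bot, inv_mul_eq_one]
    exact ⟨fun h => ⟨h.1, h.2.symm⟩, fun h => ⟨h.1, h.2.symm⟩⟩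
  have hKp : IsPGroup 2 K := hU.to_le (fun u hu => hu.1)
  obtain ⟨m, hm⟩ := IsPGroup.iff_card.1 hKp
  have hm' : N ≤ 2 ^ m := by rw [← hm, hK]; exact hN
  refine Cfsg.Agent.H460.IFO.false_of_two_pow hIF hO hs h2 ((MulAut.conj g).toMonoidHom.comp K.subtype) ?_ ?_
    (m := m) (by rw [hm]) (hT.trans (Nat.pow_le_pow_left hm' 6))
  · exact (MulAut.conj g).injective.comp K.subtype_injective
  · intro k
    have h3 : g⁻¹ * s (g * (k : Y) * g⁻¹) * g = k := by rw [← ht]; exact k.2.2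
    show s (g * (k : Y) * g⁻¹) = g * (k : Y) * g⁻¹
    calc s (g * (k : Y) * g⁻¹) = g * (g⁻¹ * s (g * (k : Y) * g⁻¹) * g) * g⁻¹ := by group
      _ = _ := by rw [h3]

end Cfsg.Agent.H363.IFO
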