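import Mathlib

/-!
# Fixed points of an involutory automorphism on a group with a central series (helper363, for S5719)

`s` an endomorphism with `s (s x) = x` of a finite group `G`, `Fx s N = {u | u⁻¹ * s u ∈ N}` (`N` normal).
* `step` : `M ≤ N` normal, `s`-invariant, `[G, N] ≤ M` : `|Fx N| |im(1+s)| |M| ≤ |Fx M| |N|`;
* `base` : `G / M` elementary abelian of exponent two: `|G : M| ≤ g ^ 2`, `|Fx M| = g |M|`.
-/

set_option autoImplicit false
set_option linter.unusedSectionVars false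

namespace Cfsg.Agent.H363.IFO

open Subgroup
open scoped commutatorElement

variable {G : Type*} [Group G] (s : G →* G)

/-- the elements fixed modulo `N` -/
def Fx (N : Subgroup G) [hN : N.Normal] : Subgroup G where
  carrier := {u | u⁻¹ * s u ∈ N}
  one_mem' := by simp [N.one_mem]
  mul_mem' := by
    intro u v hu hv
    have h1 := hN.conj_mem _ hu v⁻¹
    have h2 := N.mul_mem h1 hv
    show (u * v)⁻¹ * s (u * v) ∈ N
    have e : (u * v)⁻¹ * s (u * v) = v⁻¹ * (u⁻¹ * s u) * v⁻¹⁻¹ * (v⁻¹ * s v) := by rw [map_mul]; group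
    rw [e]
    exact h2
  inv_mem' := by
    intro u hu
    show u⁻¹⁻¹ * s u⁻¹ ∈ N
    have h1 := hN.conj_mem _ (N.inv_mem hu) u
    have e : u⁻¹⁻¹ * s u⁻¹ = u * (u⁻¹ * s u)⁻¹ * u⁻¹ := by rw [map_inv]; group
    rw [e]
    exact h1

theorem mem_Fx {N : Subgroup G} [N.Normal] {u : G} : u ∈ Fx s N ↔ u⁻¹ * s u ∈ N := Iff.rfl

theorem le_Fx {N : Subgroup G} [N.Normal] (h : ∀ x ∈ N, s x ∈ N) : N ≤ Fx s N := fun x hx =>
  N.mul_mem (N.inv_mem hx) (h x hx)

theorem Fx_mono {N M : Subgroup G} [N.Normal] [M.Normal] (h : M ≤ N) : Fx s M ≤ Fx s N := fun _ hx => h hx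

theorem mk_conj {N M : Subgroup G} [M.Normal] (hc : ∀ a : G, ∀ b ∈ N, ⁅a, b⁆ ∈ M) (a : G) {b : G} (hb : b ∈ N) :
    (QuotientGroup.mk (a * b * a⁻¹) : G ⧸ M) = QuotientGroup.mk b := by
  have h1 : (QuotientGroup.mk ⁅a, b⁆ : G ⧸ M) = 1 := (QuotientGroup.eq_one_iff _).2 (hc a b hb)
  have e : a * b * a⁻¹ = ⁅a, b⁆ * b := by rw [commutatorElement_def]; group
  rw [e, QuotientGroup.mk_mul, h1, one_mul]

theorem mk_comm {N M : Subgroup G} [M.Normal] (hc : ∀ a : G, ∀ b ∈ N, ⁅a, b⁆ ∈ M) (a : G) {b : G} (hb : b ∈ N) :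
    (QuotientGroup.mk (a * b) : G ⧸ M) = QuotientGroup.mk (b * a) := by
  have h1 := mk_conj hc a hb
  have e : a * b = (a * b * a⁻¹) * a := by group
  rw [e, QuotientGroup.mk_mul, h1, ← QuotientGroup.mk_mul]

/-- **One step of the central series.** -/
theorem step [Finite G] (hs : ∀ x, s (s x) = x) {N M : Subgroup G} [N.Normal] [M.Normal] (hMN : M ≤ N)
    (hsN : ∀ x ∈ N, s x ∈ N) (hsM : ∀ x ∈ M, s x ∈ M) (hc : ∀ a : G, ∀ b ∈ N, ⁅a, b⁆ ∈ M) {ι : Type*} [Finite ι] (f : ι → G)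
    (hf : ∀ i, f i ∈ N) (hinj : ∀ i j, (f i * s (f i))⁻¹ * (f j * s (f j)) ∈ M → i = j) :
    Nat.card (Fx s N) * Nat.card ι * Nat.card M ≤ Nat.card (Fx s M) * Nat.card N := by
  let θ : ↥(Fx s N) →* G ⧸ M := MonoidHom.mk' (fun u => QuotientGroup.mk ((u : G)⁻¹ * s u)) (by
    intro u v
    have e : ((u * v : ↥(Fx s N)) : G)⁻¹ * s ((u * v : ↥(Fx s N)) : G) =
        ((v : G)⁻¹ * ((u : G)⁻¹ * s u) * (v : G)⁻¹⁻¹) * ((v : G)⁻¹ * s v) := by
      rw [Subgroup.coe_mul, map_mul]; group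
    show QuotientGroup.mk (((u * v : ↥(Fx s N)) : G)⁻¹ * s ((u * v : ↥(Fx s N)) : G)) = _
    rw [e, QuotientGroup.mk_mul, mk_conj hc _ u.2])
  let ν : ↥N →* G ⧸ M := MonoidHom.mk' (fun x => QuotientGroup.mk ((x : G) * s x)) (by
    intro x y
    have h1 : (QuotientGroup.mk ((y : G) * s x) : G ⧸ M) = QuotientGroup.mk (s x * y) := mk_comm hc _ (hsN _ x.2)
    show (QuotientGroup.mk (((x * y : ↥N) : G) * s ((x * y : ↥N) : G)) : G ⧸ M) =
      QuotientGroup.mk ((x : G) * s x) * QuotientGroup.mk ((y : G) * s y)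
    rw [Subgroup.coe_mul, map_mul]
    calc (QuotientGroup.mk ((x : G) * y * (s x * s y)) : G ⧸ M)
        = QuotientGroup.mk (x : G) * QuotientGroup.mk ((y : G) * s x) * QuotientGroup.mk (s y) := by
          simp only [QuotientGroup.mk_mul, mul_assoc]
      _ = _ := by rw [h1]; simp only [QuotientGroup.mk_mul, mul_assoc])
  have hkθ : Nat.card θ.ker = Nat.card (Fx s M) := by
    have e : θ.ker = (Fx s M).subgroupOf (Fx s N) := by
      ext u
      rw [MonoidHom.mem_ker, Subgroup.mem_subgroupOf]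
      exact QuotientGroup.eq_one_iff _
    rw [e]
    exact Nat.card_congr (Subgroup.subgroupOfEquivOfLe (Fx_mono s hMN)).toEquiv
  have h1 : Nat.card (Fx s N) = Nat.card (Fx s M) * Nat.card θ.range := by
    rw [← hkθ, ← Subgroup.card_mul_index θ.ker, Subgroup.index_ker]
  have h2 : Nat.card N = Nat.card ν.ker * Nat.card ν.range := by
    rw [← Subgroup.card_mul_index ν.ker, Subgroup.index_ker]
  have h3 : Nat.card ι ≤ Nat.card ν.range := by
    refine Nat.card_le_card_of_injective (fun i => (⟨ν ⟨f i, hf i⟩, ⟨_, rfl⟩⟩ : ν.range)) ?_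
    intro i j hij
    have h4 : (QuotientGroup.mk (f i * s (f i)) : G ⧸ M) = QuotientGroup.mk (f j * s (f j)) := congrArg Subtype.val hij
    exact hinj i j (QuotientGroup.eq.1 h4)
  -- the range of `θ` lies in the image of the kernel of `ν`
  have h4 : Nat.card θ.range * Nat.card M ≤ Nat.card ν.ker := by
    have e1 : Nat.card (M.subgroupOf N) = Nat.card M := Nat.card_congr (Subgroup.subgroupOfEquivOfLe hMN).toEquiv
    let μ : ↥ν.ker →* G ⧸ M := (QuotientGroup.mk' M).comp (N.subtype.comp ν.ker.subtype)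
    have h5 : Nat.card ν.ker = Nat.card μ.ker * Nat.card μ.range := by
      rw [← Subgroup.card_mul_index μ.ker, Subgroup.index_ker]
    have h6 : Nat.card M ≤ Nat.card μ.ker := by
      have key : ∀ x : M, (⟨(x : G), hMN x.2⟩ : N) ∈ ν.ker := by
        intro x
        rw [MonoidHom.mem_ker]
        exact (QuotientGroup.eq_one_iff _).2 (M.mul_mem x.2 (hsM _ x.2))
      refine Nat.card_le_card_of_injective (fun x : M => (⟨⟨⟨(x : G), hMN x.2⟩, key x⟩, ?_⟩ : μ.ker)) ?_
      · rw [MonoidHom.mem_ker]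
        exact (QuotientGroup.eq_one_iff _).2 x.2
      · intro x y hxy
        have h8 := congrArg (fun z : μ.ker => (((z : ν.ker) : N) : G)) hxy
        exact Subtype.ext h8
    have h7 : Nat.card θ.range ≤ Nat.card μ.range := by
      apply Subgroup.card_le_of_le
      rintro _ ⟨u, rfl⟩
      have hw : (u : G)⁻¹ * s u ∈ N := u.2
      refine ⟨⟨⟨_, hw⟩, ?_⟩, rfl⟩
      rw [MonoidHom.mem_ker]
      show (QuotientGroup.mk (((u : G)⁻¹ * s u) * s ((u : G)⁻¹ * s u)) : G ⧸ M) = 1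
      have e : ((u : G)⁻¹ * s u) * s ((u : G)⁻¹ * s u) = 1 := by
        rw [map_mul, map_inv, hs]; group
      rw [e]
      rfl
    rw [h5, mul_comm]
    exact Nat.mul_le_mul h6 h7
  rw [h1, h2]
  calc Nat.card (Fx s M) * Nat.card θ.range * Nat.card ι * Nat.card M
      = Nat.card (Fx s M) * (Nat.card θ.range * Nat.card M) * Nat.card ι := by ring
    _ ≤ Nat.card (Fx s M) * Nat.card ν.ker * Nat.card ν.range :=
        Nat.mul_le_mul (Nat.mul_le_mul_left _ h4) h3
    _ = _ := by ring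

/-- **The elementary abelian factor group.** -/
theorem base [Finite G] {M : Subgroup G} [M.Normal] (hsM : ∀ x ∈ M, s x ∈ M) (hs : ∀ x, s (s x) = x)
    (h2 : ∀ x : G, x * x ∈ M) : Nat.card G * Nat.card M ≤ Nat.card (Fx s M) * Nat.card (Fx s M) := by
  have hsq : ∀ x : G ⧸ M, x * x = 1 := by
    intro x
    obtain ⟨a, rfl⟩ := QuotientGroup.mk_surjective x
    exact (QuotientGroup.eq_one_iff _).2 (h2 a)
  have hinv : ∀ x : G ⧸ M, x⁻¹ = x := fun x => inv_eq_of_mul_eq_one_left (hsq x)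
  have hcm : ∀ x y : G ⧸ M, x * y = y * x := by
    intro x y
    have h3 := hinv (x * y)
    rw [mul_inv_rev, hinv, hinv] at h3
    exact h3.symm
  let ν : G →* G ⧸ M := MonoidHom.mk' (fun x => QuotientGroup.mk (x * s x)) (by
    intro x y
    rw [map_mul]
    simp only [QuotientGroup.mk_mul]
    rw [mul_assoc, mul_assoc, ← mul_assoc (QuotientGroup.mk y : G ⧸ M), hcm (QuotientGroup.mk y : G ⧸ M), mul_assoc])
  have h3 : Nat.card G = Nat.card ν.ker * Nat.card ν.range := by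
    rw [← Subgroup.card_mul_index ν.ker, Subgroup.index_ker]
  have h4 : ν.ker = Fx s M := by
    ext x
    rw [MonoidHom.mem_ker, mem_Fx]
    show (QuotientGroup.mk (x * s x) : G ⧸ M) = 1 ↔ _
    rw [QuotientGroup.mk_mul, ← hinv (QuotientGroup.mk x), ← QuotientGroup.mk_inv, ← QuotientGroup.mk_mul]
    exact QuotientGroup.eq_one_iff _
  have h5 : Nat.card ν.range * Nat.card M ≤ Nat.card (Fx s M) := by
    let μ : ↥(Fx s M) →* G ⧸ M := (QuotientGroup.mk' M).comp (Fx s M).subtype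
    have h5 : Nat.card (Fx s M) = Nat.card μ.ker * Nat.card μ.range := by
      rw [← Subgroup.card_mul_index μ.ker, Subgroup.index_ker]
    have h6 : Nat.card M ≤ Nat.card μ.ker := by
      refine Nat.card_le_card_of_injective (fun x : M => (⟨⟨(x : G), le_Fx s hsM x.2⟩, ?_⟩ : μ.ker)) ?_
      · rw [MonoidHom.mem_ker]
        exact (QuotientGroup.eq_one_iff _).2 x.2
      · intro x y hxy
        have h8 := congrArg (fun z : μ.ker => ((z : Fx s M) : G)) hxy
        exact Subtype.ext h8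
    have h7 : Nat.card ν.range ≤ Nat.card μ.range := by
      apply Subgroup.card_le_of_le
      rintro _ ⟨u, rfl⟩
      refine ⟨⟨u * s u, ?_⟩, rfl⟩
      rw [mem_Fx, ← QuotientGroup.eq_one_iff, map_mul, hs]
      simp only [QuotientGroup.mk_mul, QuotientGroup.mk_inv]
      rw [hcm (QuotientGroup.mk (s u))]
      group
    rw [h5, mul_comm]
    exact Nat.mul_le_mul h6 h7
  rw [h3, h4, mul_assoc]
  exact Nat.mul_le_mul_left _ h5

/-! ### relative version -/

section Rel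

variable {Y : Type*} [Group Y] (t : Y →* Y) (U : Subgroup Y)

/-- the number of elements of `U` fixed modulo `N` -/
noncomputable def FF (N : Subgroup Y) : ℕ := Nat.card {u : Y // u ∈ U ∧ u⁻¹ * t u ∈ N}

variable {t U}

/-- the restriction -/
def rs (hU : ∀ x ∈ U, t x ∈ U) : ↥U →* ↥U := (t.comp U.subtype).codRestrict U fun x => hU x x.2

theorem card_Fx (hU : ∀ x ∈ U, t x ∈ U) (N : Subgroup Y) [(N.subgroupOf U).Normal] :
    Nat.card (Fx (rs hU) (N.subgroupOf U)) = FF t U N := by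
  refine Nat.card_congr ⟨fun u => ⟨((u : U) : Y), (u : U).2, u.2⟩, fun u => ⟨⟨u.1, u.2.1⟩, u.2.2⟩, fun u => rfl,
    fun u => rfl⟩

theorem card_sub {N : Subgroup Y} (h : N ≤ U) : Nat.card (N.subgroupOf U) = Nat.card N :=
  Nat.card_congr (Subgroup.subgroupOfEquivOfLe h).toEquiv

theorem normal_sub {N : Subgroup Y} (h : ∀ a ∈ U, ∀ b ∈ N, a * b * a⁻¹ ∈ N) : (N.subgroupOf U).Normal :=
  ⟨fun b hb a => h a a.2 b hb⟩

/-- **One step of the central series.** -/
theorem step_rel [Finite Y] (hs : ∀ x, t (t x) = x) (hU : ∀ x ∈ U, t x ∈ U) {N M : Subgroup Y} (hMN : M ≤ N)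
    (hNU : N ≤ U) (hsN : ∀ x ∈ N, t x ∈ N) (hsM : ∀ x ∈ M, t x ∈ M) (hc : ∀ a ∈ U, ∀ b ∈ N, ⁅a, b⁆ ∈ M)
    {ι : Type*} [Finite ι] (f : ι → Y) (hf : ∀ i, f i ∈ N)
    (hinj : ∀ i j, (f i * t (f i))⁻¹ * (f j * t (f j)) ∈ M → i = j) :
    FF t U N * Nat.card ι * Nat.card M ≤ FF t U M * Nat.card N := by
  have hN : (N.subgroupOf U).Normal := normal_sub fun a ha b hb => by
    have h1 := N.mul_mem (hMN (hc a ha b hb)) hb
    rwa [commutatorElement_def, inv_mul_cancel_right] at h1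
  have hM : (M.subgroupOf U).Normal := normal_sub fun a ha b hb => by
    have h1 := M.mul_mem (hc a ha b (hMN hb)) hb
    rwa [commutatorElement_def, inv_mul_cancel_right] at h1
  have h1 := step (rs hU) (fun x => Subtype.ext (hs x)) (N := N.subgroupOf U) (M := M.subgroupOf U)
    (fun x hx => hMN hx) (fun x hx => hsN x hx) (fun x hx => hsM x hx)
    (fun a b hb => hc a a.2 b hb) (fun i => (⟨f i, hNU (hf i)⟩ : U)) hf (fun i j hij => hinj i j hij)
  rwa [card_Fx hU, card_Fx hU, card_sub hNU, card_sub (hMN.trans hNU)] at h1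

/-- **The elementary abelian factor group.** -/
theorem base_rel [Finite Y] (hs : ∀ x, t (t x) = x) (hU : ∀ x ∈ U, t x ∈ U) {M : Subgroup Y} (hMU : M ≤ U)
    (hsM : ∀ x ∈ M, t x ∈ M) (hn : ∀ a ∈ U, ∀ b ∈ M, a * b * a⁻¹ ∈ M) (h2 : ∀ x ∈ U, x * x ∈ M) :
    Nat.card U * Nat.card M ≤ FF t U M * FF t U M := by
  have hM : (M.subgroupOf U).Normal := normal_sub hn
  have h1 := base (rs hU) (M := M.subgroupOf U) (fun x hx => hsM x hx) (fun x => Subtype.ext (hs x))
    (fun x => h2 x x.2)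
  rwa [card_Fx hU, card_sub hMU] at h1

end Rel

end Cfsg.Agent.H363.IFO
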