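import Cfsg.Agent.H363.IFO.Fil
import Cfsg.Agent.OddHalf.D4.StarESix

/-!
# Fixed points of an involution on a Sylow subgroup in defining characteristic two (helper363, for S5719)

`R` a root group datum with the Chevalley commutator formula, `U = ⟨X a : a > 0⟩`, `β` an endomorphism with
`β (X a) ≤ X (π a)`, `π` an involutory permutation of the positive roots which preserves the heights, `u ∈ U`,
`t y = u * β y * u⁻¹`, `t (t y) = y`.
* `chain` : `FF t U ⟨X S⟩ * q ^ |S ∩ Q| ≤ FF t U ⊥ * |⟨X S⟩|`.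
* `fix_card` : `q ^ 26 ≤ |C_U(t)| ^ 2` for ten roots in `Q` and `|U : V_2| ≥ q ^ 6`.
-/

set_option autoImplicit false
set_option linter.unusedSectionVars false

namespace Cfsg.Agent.H363.IFO

open Subgroup CoxeterSystem Cfsg.Agent.ChevalleyStructure.CoxeterGeom Cfsg.Agent.Tits.Core
  Cfsg.Agent.Nodes.Reps Cfsg.Agent.Nodes.BNOf Cfsg.Agent.Nodes.NormalForm Cfsg.Agent.Nodes
  Cfsg.Agent.KFacts.RgdFilt Cfsg.Agent.KFacts.RgdBorelTits Cfsg.Agent.OddHalf.D4.StarLoc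
open Cfsg.Agent.Tits.Roots hiding ht
open Cfsg.Agent.OddHalf.D4.LineRgd (ht)
open scoped commutatorElement

section Comm

variable {G : Type*} [Group G]

/-- commutators of generated subgroups -/
theorem comm_closure' {A B : Set G} {W : Subgroup G} (hA : ∀ a ∈ A, ∀ w ∈ W, a * w * a⁻¹ ∈ W)
    (hA' : ∀ a ∈ A, a⁻¹ ∈ A) (hB : ∀ b ∈ B, ∀ w ∈ W, b * w * b⁻¹ ∈ W) (hB' : ∀ b ∈ B, b⁻¹ ∈ B)
    (h : ∀ a ∈ A, ∀ b ∈ B, ⁅a, b⁆ ∈ W) : ∀ a ∈ Subgroup.closure A, ∀ b ∈ Subgroup.closure B, ⁅a, b⁆ ∈ W := by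
  let NW : Subgroup G :=
    { carrier := {g | (∀ w ∈ W, g * w * g⁻¹ ∈ W) ∧ ∀ w ∈ W, g⁻¹ * w * g ∈ W}
      one_mem' := ⟨fun w hw => by simpa using hw, fun w hw => by simpa using hw⟩
      mul_mem' := by
        rintro a b ⟨h1, h2⟩ ⟨h3, h4⟩
        refine ⟨fun w hw => ?_, fun w hw => ?_⟩
        · have := h1 _ (h3 w hw)
          rwa [show a * (b * w * b⁻¹) * a⁻¹ = a * b * w * (a * b)⁻¹ by group] at this
        · have := h4 _ (h2 w hw)
          rwa [show b⁻¹ * (a⁻¹ * w * a) * b = (a * b)⁻¹ * w * (a * b) by group] at this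
      inv_mem' := by
        rintro a ⟨h1, h2⟩
        exact ⟨fun w hw => by simpa using h2 w hw, fun w hw => by simpa using h1 w hw⟩ }
  have hAN : A ⊆ NW := fun a ha => ⟨hA a ha, fun w hw => by simpa using hA _ (hA' a ha) w hw⟩
  have hBN : B ⊆ NW := fun a ha => ⟨hB a ha, fun w hw => by simpa using hB _ (hB' a ha) w hw⟩
  have step1 : ∀ a ∈ A, ∀ b ∈ Subgroup.closure B, b ∈ NW ∧ ⁅a, b⁆ ∈ W := by
    intro a ha b hb
    induction hb using Subgroup.closure_induction with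
    | mem b hb => exact ⟨hBN hb, h a ha b hb⟩
    | one => exact ⟨one_mem _, by rw [commutatorElement_one_right]; exact one_mem _⟩
    | mul b c _ _ ihb ihc =>
      refine ⟨mul_mem ihb.1 ihc.1, ?_⟩
      have e : ⁅a, b * c⁆ = ⁅a, b⁆ * (b * ⁅a, c⁆ * b⁻¹) := by simp only [commutatorElement_def]; group
      rw [e]
      exact mul_mem ihb.2 (ihb.1.1 _ ihc.2)
    | inv b _ ihb =>
      refine ⟨inv_mem ihb.1, ?_⟩
      have e : ⁅a, b⁻¹⁆ = b⁻¹ * ⁅a, b⁆⁻¹ * b := by simp only [commutatorElement_def]; group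
      rw [e]
      exact ihb.1.2 _ (inv_mem ihb.2)
  intro a ha b hb
  have key : a ∈ NW ∧ ⁅a, b⁆ ∈ W := by
    induction ha using Subgroup.closure_induction with
    | mem a ha => exact ⟨hAN ha, (step1 a ha b hb).2⟩
    | one => exact ⟨one_mem _, by rw [commutatorElement_one_left]; exact one_mem _⟩
    | mul a c _ _ iha ihc =>
      refine ⟨mul_mem iha.1 ihc.1, ?_⟩
      have e : ⁅a * c, b⁆ = a * ⁅c, b⁆ * a⁻¹ * ⁅a, b⁆ := by simp only [commutatorElement_def]; group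
      rw [e]
      exact mul_mem (iha.1.1 _ ihc.2) iha.2
    | inv a _ iha =>
      refine ⟨inv_mem iha.1, ?_⟩
      have e : ⁅a⁻¹, b⁆ = a⁻¹ * ⁅a, b⁆⁻¹ * a := by simp only [commutatorElement_def]; group
      rw [e]
      exact iha.1.2 _ (inv_mem iha.2)
  exact key.2

end Comm

universe v

variable {I W : Type*} {Y : Type v} [Fintype I] [DecidableEq I] [Group W] [Group Y] {M : CoxeterMatrix I}
  {cs : CoxeterSystem M W} {A : I → I → ℤ} {h : IsCartan M A} {p : ℕ} {T : Subgroup Y} {n : I → Y}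
  {X : (I → ℤ) → Subgroup Y}

theorem up_pos : Up cs h (RGD.Pos cs h) := ⟨le_rfl, fun _ _ _ ht' _ => ht'⟩

/-- `⟨X S⟩` as a closure -/
theorem Sup_eq_closure (S : Set (I → ℤ)) : RGD.Sup X S = Subgroup.closure {g | ∃ z ∈ S, g ∈ X z} := by
  apply le_antisymm
  · exact RGD.Sup_le fun z hz g hg => Subgroup.subset_closure ⟨z, hz, hg⟩
  · rw [Subgroup.closure_le]
    rintro g ⟨z, hz, hg⟩
    exact RGD.le_Sup hz hg

/-- `[⟨X S⟩, ⟨X S'⟩] ≤ ⟨X Z⟩` -/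
theorem comm_Sup (hI : IntComm cs h X) {S S' Z : Set (I → ℤ)} (hS : S ⊆ RGD.Pos cs h) (hS' : S' ⊆ RGD.Pos cs h)
    (hZ : Up cs h Z) (hc : ∀ x ∈ S, ∀ y ∈ S', ∀ a ∈ X x, ∀ b ∈ X y, ⁅a, b⁆ ∈ RGD.Sup X Z) :
    ∀ a ∈ RGD.Sup X S, ∀ b ∈ RGD.Sup X S', ⁅a, b⁆ ∈ RGD.Sup X Z := by
  rw [Sup_eq_closure S, Sup_eq_closure S']
  refine comm_closure' ?_ ?_ ?_ ?_ ?_
  · rintro a ⟨x, hx, ha⟩ w hw
    exact hZ.conj hI (hS hx) ha hw
  · rintro a ⟨x, hx, ha⟩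
    exact ⟨x, hx, inv_mem ha⟩
  · rintro a ⟨x, hx, ha⟩ w hw
    exact hZ.conj hI (hS' hx) ha hw
  · rintro a ⟨x, hx, ha⟩
    exact ⟨x, hx, inv_mem ha⟩
  · rintro a ⟨x, hx, ha⟩ b ⟨y, hy, hb⟩
    exact hc x hx y hy a ha b hb

/-- `U` normalises `⟨X S⟩` -/
theorem conj_Sup (hI : IntComm cs h X) {S : Set (I → ℤ)} (hS : Up cs h S) {a b : Y}
    (ha : a ∈ RGD.Sup X (RGD.Pos cs h)) (hb : b ∈ RGD.Sup X S) : a * b * a⁻¹ ∈ RGD.Sup X S := by
  revert b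
  refine Subgroup.iSup_induction (fun t : ↥(RGD.Pos cs h) => X t.1) (C := fun a => ∀ {b : Y}, b ∈ RGD.Sup X S →
    a * b * a⁻¹ ∈ RGD.Sup X S) ha ?_ ?_ ?_
  · intro t g hg v hv
    exact hS.conj hI t.2 hg hv
  · intro v hv
    rwa [one_mul, inv_one, mul_one]
  · intro g g' h1 h2 v hv
    have e : g * g' * v * (g * g')⁻¹ = g * (g' * v * g'⁻¹) * g⁻¹ := by group
    rw [e]
    exact h1 (h2 hv)

/-- removal of roots of least height -/
theorem up_diff {S : Set (I → ℤ)} (hS : Up cs h S) {O : Set (I → ℤ)} (hmin : ∀ o ∈ O, ∀ y ∈ S, ht o ≤ ht y) :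
    Up cs h (S \ O) := by
  refine ⟨fun t ht' => hS.1 ht'.1, ?_⟩
  rintro t ⟨ht', hts⟩ t' ht'' hlt
  refine ⟨hS.2 t ht' t' ht'' hlt, fun ho => ?_⟩
  have := hmin t' ho t ht'
  omega

/-- `[U, ⟨X S⟩] ≤ ⟨X (S \ O)⟩` -/
theorem comm_U (hI : IntComm cs h X) (hab : ∀ x ∈ RGD.Pos cs h, ∀ a ∈ X x, ∀ b ∈ X x, a * b = b * a)
    {S : Set (I → ℤ)} (hS : Up cs h S) {O : Set (I → ℤ)} (hmin : ∀ o ∈ O, ∀ y ∈ S, ht o ≤ ht y) :
    ∀ a ∈ RGD.Sup X (RGD.Pos cs h), ∀ b ∈ RGD.Sup X S, ⁅a, b⁆ ∈ RGD.Sup X (S \ O) := by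
  refine comm_Sup hI le_rfl hS.1 (up_diff hS hmin) ?_
  intro x hx y hy a ha b hb
  by_cases hxy : x = y
  · subst hxy
    rw [commutatorElement_eq_one_iff_mul_comm.2 (hab x hx a ha b hb)]
    exact one_mem _
  · refine comm_mem (S := S \ O) hI hx (hS.1 hy) hxy (fun z hz => ⟨hS.ib hx hy hz, fun ho => ?_⟩) ha hb
    have h1 := hmin z ho y hy
    have h2 := (ib_add_le hx (hS.1 hy) hz).1
    have h3 := ht_pos' hx
    omega

/-- `X x ⊓ ⟨X (S \ {x})⟩ = 1` -/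
theorem inf_eq_one [Finite W] (R : RGD cs h p T n X) (hI : IntComm cs h X) {S : Set (I → ℤ)} (hS : Up cs h S)
    {x : I → ℤ} (hx : x ∈ RGD.Pos cs h) (hxS : x ∉ S) {a : Y} (ha : a ∈ X x) (ha' : a ∈ RGD.Sup X S) : a = 1 := by
  have h2 : Cl cs h {x} := by
    refine ⟨fun t ht' => by rw [Set.mem_singleton_iff.1 ht']; exact hx, ?_⟩
    rintro x' hx' y hy hxy
    exact absurd ((Set.mem_singleton_iff.1 hx').trans (Set.mem_singleton_iff.1 hy).symm) hxy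
  have h3 := h2.inf R hI hS.cl ⟨RGD.le_Sup (S := {x}) (Set.mem_singleton x) ha, ha'⟩
  have h4 : RGD.Sup X ({x} ∩ S) ≤ ⊥ := by
    refine RGD.Sup_le ?_
    rintro z ⟨hz, hz'⟩
    rw [Set.mem_singleton_iff] at hz
    subst hz
    exact absurd hz' hxS
  exact Subgroup.mem_bot.1 (h4 h3)

/-- peeling off a root group -/
theorem peel [Finite W] [Finite Y] (R : RGD cs h p T n X) (hI : IntComm cs h X) {S : Set (I → ℤ)} (hS : Up cs h S)
    {x : I → ℤ} (hx : x ∈ S) (hmin : ∀ y ∈ S, ht x ≤ ht y) :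
    Nat.card (X x) * Nat.card (RGD.Sup X (S \ {x})) ≤ Nat.card (RGD.Sup X S) := by
  have hS' : Up cs h (S \ {x}) := up_diff hS (by
    intro o ho y hy
    rw [Set.mem_singleton_iff.1 ho]
    exact hmin y hy)
  rw [← Nat.card_prod]
  refine Nat.card_le_card_of_injective (fun z : X x × RGD.Sup X (S \ {x}) =>
    (⟨(z.1 : Y) * (z.2 : Y), mul_mem (RGD.le_Sup hx z.1.2) (RGD.Sup_mono Set.sdiff_subset z.2.2)⟩ : RGD.Sup X S)) ?_
  rintro ⟨⟨a, ha⟩, ⟨v, hv⟩⟩ ⟨⟨b, hb⟩, ⟨w, hw⟩⟩ hvw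
  have h1 : a * v = b * w := congrArg Subtype.val hvw
  have h2 : b⁻¹ * a = w * v⁻¹ := by
    rw [eq_mul_inv_iff_mul_eq, mul_assoc, h1, inv_mul_cancel_left]
  have h3 : b⁻¹ * a = 1 := inf_eq_one R hI hS' (hS.1 hx) (fun h => h.2 rfl) (mul_mem (inv_mem hb) ha)
    (by rw [h2]; exact mul_mem hw (inv_mem hv))
  have h4 : a = b := (inv_mul_eq_one.1 h3).symm
  subst h4
  have h5 : v = w := mul_left_cancel h1
  subst h5
  rfl

section Beta

variable (β : Y →* Y) {u : Y} {π : (I → ℤ) → I → ℤ}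

/-- the data -/
structure Dat (cs : CoxeterSystem M W) (h : IsCartan M A) (X : (I → ℤ) → Subgroup Y) (β : Y →* Y) (u : Y)
    (π : (I → ℤ) → I → ℤ) : Prop where
  hI : IntComm cs h X
  ab : ∀ x ∈ RGD.Pos cs h, ∀ a ∈ X x, ∀ b ∈ X x, a * b = b * a
  sq : ∀ x ∈ RGD.Pos cs h, ∀ a ∈ X x, a * a = 1
  hu : u ∈ RGD.Sup X (RGD.Pos cs h)
  pos : ∀ x ∈ RGD.Pos cs h, π x ∈ RGD.Pos cs h
  hh : ∀ x ∈ RGD.Pos cs h, ht (π x) = ht x
  pp : ∀ x ∈ RGD.Pos cs h, π (π x) = x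
  be : ∀ x ∈ RGD.Pos cs h, ∀ a ∈ X x, β a ∈ X (π x)
  inv : ∀ y, u * β (u * β y * u⁻¹) * u⁻¹ = y

/-- `y ↦ u * β y * u⁻¹` -/
def tt (β : Y →* Y) (u : Y) : Y →* Y := (MulAut.conj u).toMonoidHom.comp β

theorem tt_apply (β : Y →* Y) (u y : Y) : tt β u y = u * β y * u⁻¹ := rfl

variable {β}

namespace Dat

variable (D : Dat cs h X β u π)

include D

theorem t_t (y : Y) : tt β u (tt β u y) = y := D.inv y

theorem be_Sup {S : Set (I → ℤ)} (hS : S ⊆ RGD.Pos cs h) {S' : Set (I → ℤ)} (hS' : ∀ x ∈ S, π x ∈ S') :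
    ∀ y ∈ RGD.Sup X S, β y ∈ RGD.Sup X S' := by
  have h1 : RGD.Sup X S ≤ (RGD.Sup X S').comap β := RGD.Sup_le fun z hz y hy =>
    RGD.le_Sup (hS' z hz) (D.be z (hS hz) y hy)
  exact h1

theorem t_Sup {S : Set (I → ℤ)} (hS : Up cs h S) (hS' : ∀ x ∈ S, π x ∈ S) :
    ∀ y ∈ RGD.Sup X S, tt β u y ∈ RGD.Sup X S := fun y hy =>
  conj_Sup D.hI hS D.hu (D.be_Sup hS.1 hS' y hy)

/-- **One step.** -/
theorem step_q [Finite W] [Finite Y] (R : RGD cs h p T n X) {S : Set (I → ℤ)} (hS : Up cs h S) (hπ : ∀ x ∈ S, π x ∈ S)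
    {x : I → ℤ} (hx : x ∈ S) (hmin : ∀ y ∈ S, ht x ≤ ht y) {q : ℕ}
    (hq : q = 1 ∨ (x ≠ π x ∧ q ≤ Nat.card (X x)) ∨ (x = π x ∧ q ≤ Nat.card {y : Y // ∃ a ∈ X x, y = a * β a})) :
    FF (tt β u) (RGD.Sup X (RGD.Pos cs h)) (RGD.Sup X S) * q * Nat.card (RGD.Sup X (S \ {x, π x})) ≤
      FF (tt β u) (RGD.Sup X (RGD.Pos cs h)) (RGD.Sup X (S \ {x, π x})) * Nat.card (RGD.Sup X S) := by
  have hxP := hS.1 hx
  have hmin' : ∀ o ∈ ({x, π x} : Set (I → ℤ)), ∀ y ∈ S, ht o ≤ ht y := by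
    rintro o (rfl | ho) y hy
    · exact hmin y hy
    · rw [Set.mem_singleton_iff.1 ho, D.hh x hxP]
      exact hmin y hy
  have hS' : Up cs h (S \ {x, π x}) := up_diff hS hmin'
  have hS1 : Up cs h (S \ {x}) := up_diff hS fun o ho => hmin' o (Or.inl ho)
  have hπ' : ∀ y ∈ S \ {x, π x}, π y ∈ S \ {x, π x} := by
    rintro y ⟨hy, hy'⟩
    refine ⟨hπ y hy, ?_⟩
    rintro (h1 | h1)
    · apply hy'
      right
      rw [Set.mem_singleton_iff, ← h1, D.pp y (hS.1 hy)]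
    · apply hy'
      left
      have h2 := congrArg π (Set.mem_singleton_iff.1 h1)
      rwa [D.pp y (hS.1 hy), D.pp x hxP] at h2
  have hmn : RGD.Sup X (S \ {x, π x}) ≤ RGD.Sup X S := RGD.Sup_mono Set.sdiff_subset
  have hnu : RGD.Sup X S ≤ RGD.Sup X (RGD.Pos cs h) := RGD.Sup_mono hS.1
  have hcU := comm_U D.hI D.ab hS hmin'
  have gen : ∀ {ι : Type v} [Finite ι] (f : ι → Y), (∀ i, f i ∈ RGD.Sup X S) →
      (∀ i j, (f i * tt β u (f i))⁻¹ * (f j * tt β u (f j)) ∈ RGD.Sup X (S \ {x, π x}) → i = j) →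
      FF (tt β u) (RGD.Sup X (RGD.Pos cs h)) (RGD.Sup X S) * Nat.card ι * Nat.card (RGD.Sup X (S \ {x, π x})) ≤
      FF (tt β u) (RGD.Sup X (RGD.Pos cs h)) (RGD.Sup X (S \ {x, π x})) * Nat.card (RGD.Sup X S) :=
    fun {ι} _ f hf hinj => step_rel D.t_t (D.t_Sup up_pos D.pos) hmn hnu (D.t_Sup hS hπ) (D.t_Sup hS' hπ') hcU f hf hinj
  rcases hq with rfl | ⟨hne, hq⟩ | ⟨he, hq⟩
  · have h1 := gen (ι := PUnit.{v+1}) (fun _ => 1) (fun _ => one_mem _) (fun _ _ _ => rfl)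
    rwa [Nat.card_unique] at h1
  · have h1 := gen (ι := X x) (fun a => a) (fun a => RGD.le_Sup hx a.2) (by
      intro a b hab
      have hN1 : ∀ c ∈ X x, tt β u c ∈ RGD.Sup X (S \ {x}) := by
        intro c hc
        exact conj_Sup D.hI hS1 D.hu (RGD.le_Sup (S := S \ {x}) (z := π x) ⟨hπ x hx, fun h0 => hne h0.symm⟩
          (D.be x hxP c hc))
      have h2 : ((a : Y) * tt β u a)⁻¹ * ((b : Y) * tt β u b) ∈ RGD.Sup X (S \ {x}) :=
        RGD.Sup_mono (S := S \ {x, π x}) (S' := S \ {x}) (fun z hz => ⟨hz.1, fun h0 => hz.2 (Or.inl h0)⟩) hab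
      have h3 : (a : Y)⁻¹ * b ∈ RGD.Sup X (S \ {x}) := by
        have h4 := mul_mem (mul_mem (hN1 a a.2) h2) (inv_mem (hN1 b b.2))
        have e : tt β u a * (((a : Y) * tt β u a)⁻¹ * ((b : Y) * tt β u b)) * (tt β u b)⁻¹ = (a : Y)⁻¹ * b := by
          group
        rwa [e] at h4
      have h4 := inf_eq_one R D.hI hS1 hxP (fun h0 => h0.2 rfl) (mul_mem (inv_mem a.2) b.2) h3
      exact Subtype.ext (inv_mul_eq_one.1 h4))
    exact (Nat.mul_le_mul_right _ (Nat.mul_le_mul_left _ hq)).trans h1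
  · have hse : ({x, π x} : Set (I → ℤ)) = {x} := by rw [← he, Set.pair_eq_singleton]
    have h1 := gen (ι := {y : Y // ∃ a ∈ X x, y = a * β a}) (fun i => i.2.choose)
      (fun i => RGD.le_Sup hx i.2.choose_spec.1) (by
      intro i j hij
      obtain ⟨ha, hai⟩ := i.2.choose_spec
      obtain ⟨hb, hbj⟩ := j.2.choose_spec
      set a := i.2.choose with hadef
      set b := j.2.choose with hbdef
      have hβ : ∀ {c : Y}, c ∈ X x → β c ∈ X x := fun {c} hc => by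
        have := D.be x hxP c hc
        rwa [← he] at this
      have key : ∀ {c : Y}, c ∈ X x → ∃ m ∈ RGD.Sup X (S \ {x, π x}), c * tt β u c = m * (c * β c) := by
        intro c hc
        have hm : ⁅u, β c⁆ ∈ RGD.Sup X (S \ {x, π x}) := hcU u D.hu _ (RGD.le_Sup hx (hβ hc))
        refine ⟨c * ⁅u, β c⁆ * c⁻¹, hS'.conj D.hI hxP hc hm, ?_⟩
        rw [tt_apply, commutatorElement_def]
        group
      obtain ⟨m, hm, em⟩ := key ha
      obtain ⟨m', hm', em'⟩ := key hb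
      rw [em, em', ← hai, ← hbj] at hij
      have hi : (i : Y) ∈ X x := by rw [hai]; exact mul_mem ha (hβ ha)
      have hj : (j : Y) ∈ X x := by rw [hbj]; exact mul_mem hb (hβ hb)
      have h5 : (i : Y)⁻¹ * (j : Y) ∈ RGD.Sup X (S \ {x, π x}) := by
        have h6 : (i : Y)⁻¹ * (m⁻¹ * m') * (i : Y)⁻¹⁻¹ ∈ RGD.Sup X (S \ {x, π x}) :=
          hS'.conj D.hI hxP (inv_mem hi) (mul_mem (inv_mem hm) hm')
        have h7 := mul_mem (inv_mem h6) hij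
        have e : ((i : Y)⁻¹ * (m⁻¹ * m') * (i : Y)⁻¹⁻¹)⁻¹ * ((m * (i : Y))⁻¹ * (m' * (j : Y))) = (i : Y)⁻¹ * (j : Y) := by
          group
        rwa [e] at h7
      have h6 := inf_eq_one R D.hI hS' hxP (fun h0 => h0.2 (Or.inl rfl)) (mul_mem (inv_mem hi) hj) h5
      exact Subtype.ext (inv_mul_eq_one.1 h6))
    exact (Nat.mul_le_mul_right _ (Nat.mul_le_mul_left _ hq)).trans h1

/-- **The chain.** -/
theorem chain [Finite W] [Finite Y] (R : RGD cs h p T n X) {q : ℕ} {Q : Set (I → ℤ)}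
    (hQ : ∀ x ∈ RGD.Pos cs h, x ∈ Q → (x ≠ π x ∧ π x ∉ Q ∧ q ≤ Nat.card (X x)) ∨
      (x = π x ∧ q ≤ Nat.card {y : Y // ∃ a ∈ X x, y = a * β a})) :
    ∀ m : ℕ, ∀ S : Set (I → ℤ), Up cs h S → (∀ x ∈ S, π x ∈ S) → S.ncard ≤ m →
      FF (tt β u) (RGD.Sup X (RGD.Pos cs h)) (RGD.Sup X S) * q ^ (S ∩ Q).ncard ≤
        FF (tt β u) (RGD.Sup X (RGD.Pos cs h)) ⊥ * Nat.card (RGD.Sup X S) := by
  have hfin : (RGD.Pos cs h).Finite := (RGD.finite_roots (cs := cs) (h := h)).subset fun x hx => hx.1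
  intro m
  induction m with
  | zero =>
    intro S hS _ hm
    have h1 : S = ∅ := (Set.ncard_eq_zero (hfin.subset hS.1)).1 (Nat.le_zero.1 hm)
    have h2 : RGD.Sup X S = ⊥ := by
      rw [h1, eq_bot_iff]
      exact RGD.Sup_le fun z hz => absurd hz (Set.notMem_empty z)
    rw [h2, h1, Set.empty_inter, Set.ncard_empty, pow_zero, mul_one]
    exact Nat.le_mul_of_pos_right _ Nat.card_pos
  | succ m ih =>
    intro S hS hπ hm
    rcases S.eq_empty_or_nonempty with h1 | h1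
    · exact ih S hS hπ (by rw [h1]; simp)
    have hSfin := hfin.subset hS.1
    -- the least root of the orbit, in `Q` if possible
    obtain ⟨x, hx, hmin, hxQ⟩ : ∃ x ∈ S, (∀ y ∈ S, ht x ≤ ht y) ∧ (x ∈ Q ∨ π x ∉ Q ∧ x ∉ Q) := by
      obtain ⟨s, hs, hmin⟩ := Set.exists_min_image S ht hSfin h1
      by_cases h2 : s ∈ Q
      · exact ⟨s, hs, hmin, Or.inl h2⟩
      by_cases h3 : π s ∈ Q
      · refine ⟨π s, hπ s hs, fun y hy => ?_, Or.inl h3⟩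
        rw [D.hh s (hS.1 hs)]
        exact hmin y hy
      · exact ⟨s, hs, hmin, Or.inr ⟨h3, h2⟩⟩
    have hxP := hS.1 hx
    have hmin' : ∀ o ∈ ({x, π x} : Set (I → ℤ)), ∀ y ∈ S, ht o ≤ ht y := by
      rintro o (rfl | ho) y hy
      · exact hmin y hy
      · rw [Set.mem_singleton_iff.1 ho, D.hh x hxP]
        exact hmin y hy
    have hS' : Up cs h (S \ {x, π x}) := up_diff hS hmin'
    have hπ' : ∀ y ∈ S \ {x, π x}, π y ∈ S \ {x, π x} := by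
      rintro y ⟨hy, hy'⟩
      refine ⟨hπ y hy, ?_⟩
      rintro (h1 | h1)
      · apply hy'
        right
        rw [Set.mem_singleton_iff, ← h1, D.pp y (hS.1 hy)]
      · apply hy'
        left
        have h2 := congrArg π (Set.mem_singleton_iff.1 h1)
        rwa [D.pp y (hS.1 hy), D.pp x hxP] at h2
    have hcard : (S \ {x, π x}).ncard ≤ m := by
      have h2 : (S \ {x, π x}).ncard < S.ncard :=
        Set.ncard_lt_ncard ⟨Set.sdiff_subset, fun h3 => (h3 hx).2 (Or.inl rfl)⟩ hSfin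
      omega
    have hih := ih _ hS' hπ' hcard
    set F1 := FF (tt β u) (RGD.Sup X (RGD.Pos cs h)) (RGD.Sup X S) with hF1
    set F2 := FF (tt β u) (RGD.Sup X (RGD.Pos cs h)) (RGD.Sup X (S \ {x, π x})) with hF2
    set F0 := FF (tt β u) (RGD.Sup X (RGD.Pos cs h)) ⊥ with hF0
    have hpos : 0 < Nat.card (RGD.Sup X (S \ {x, π x})) := Nat.card_pos
    rcases hxQ with hxQ | ⟨hxQ', hxQ⟩
    · have h2 : q = 1 ∨ (x ≠ π x ∧ q ≤ Nat.card (X x)) ∨
          (x = π x ∧ q ≤ Nat.card {y : Y // ∃ a ∈ X x, y = a * β a}) := by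
        rcases hQ x hxP hxQ with ⟨a, -, b⟩ | h3
        · exact Or.inr (Or.inl ⟨a, b⟩)
        · exact Or.inr (Or.inr h3)
      have h3 := D.step_q R hS hπ hx hmin h2
      have h4 : (S ∩ Q).ncard = (S \ {x, π x} ∩ Q).ncard + 1 := by
        have h5 : S \ {x, π x} ∩ Q = (S ∩ Q) \ {x} := by
          ext y
          simp only [Set.mem_inter_iff, Set.mem_sdiff, Set.mem_insert_iff, Set.mem_singleton_iff, not_or]
          constructor
          · rintro ⟨⟨h6, h7, h8⟩, h9⟩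
            exact ⟨⟨h6, h9⟩, h7⟩
          · rintro ⟨⟨h6, h9⟩, h7⟩
            refine ⟨⟨h6, h7, ?_⟩, h9⟩
            rintro rfl
            rcases hQ x hxP hxQ with ⟨-, b, -⟩ | ⟨b, -⟩
            · exact b h9
            · exact h7 b.symm
        rw [h5]
        exact (Set.ncard_sdiff_singleton_add_one (s := S ∩ Q) ⟨hx, hxQ⟩ (hSfin.subset Set.inter_subset_left)).symm
      rw [h4, pow_succ]
      refine Nat.le_of_mul_le_mul_right ?_ hpos
      calc F1 * (q ^ (S \ {x, π x} ∩ Q).ncard * q) * Nat.card (RGD.Sup X (S \ {x, π x}))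
          = (F1 * q * Nat.card (RGD.Sup X (S \ {x, π x}))) * q ^ (S \ {x, π x} ∩ Q).ncard := by ring
        _ ≤ (F2 * Nat.card (RGD.Sup X S)) * q ^ (S \ {x, π x} ∩ Q).ncard := Nat.mul_le_mul_right _ h3
        _ = (F2 * q ^ (S \ {x, π x} ∩ Q).ncard) * Nat.card (RGD.Sup X S) := by ring
        _ ≤ (F0 * Nat.card (RGD.Sup X (S \ {x, π x}))) * Nat.card (RGD.Sup X S) := Nat.mul_le_mul_right _ hih
        _ = _ := by ring
    · have h3 := D.step_q R hS hπ hx hmin (q := 1) (Or.inl rfl)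
      have h4 : S ∩ Q = S \ {x, π x} ∩ Q := by
        ext y
        simp only [Set.mem_inter_iff, Set.mem_sdiff, Set.mem_insert_iff, Set.mem_singleton_iff, not_or]
        constructor
        · rintro ⟨h6, h9⟩
          refine ⟨⟨h6, ?_, ?_⟩, h9⟩
          · rintro rfl
            exact hxQ h9
          · rintro rfl
            exact hxQ' h9
        · rintro ⟨⟨h6, -, -⟩, h9⟩
          exact ⟨h6, h9⟩
      rw [h4]
      refine Nat.le_of_mul_le_mul_right ?_ hpos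
      calc F1 * (q ^ (S \ {x, π x} ∩ Q).ncard) * Nat.card (RGD.Sup X (S \ {x, π x}))
          = (F1 * 1 * Nat.card (RGD.Sup X (S \ {x, π x}))) * q ^ (S \ {x, π x} ∩ Q).ncard := by ring
        _ ≤ (F2 * Nat.card (RGD.Sup X S)) * q ^ (S \ {x, π x} ∩ Q).ncard := Nat.mul_le_mul_right _ h3
        _ = (F2 * q ^ (S \ {x, π x} ∩ Q).ncard) * Nat.card (RGD.Sup X S) := by ring
        _ ≤ (F0 * Nat.card (RGD.Sup X (S \ {x, π x}))) * Nat.card (RGD.Sup X S) := Nat.mul_le_mul_right _ hih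
        _ = _ := by ring

/-- **The factor group of the simple roots.** -/
theorem base_q [Finite W] [Finite Y] :
    Nat.card (RGD.Sup X (RGD.Pos cs h)) * Nat.card (RGD.Sup X (Gt cs h 1)) ≤
      FF (tt β u) (RGD.Sup X (RGD.Pos cs h)) (RGD.Sup X (Gt cs h 1)) *
      FF (tt β u) (RGD.Sup X (RGD.Pos cs h)) (RGD.Sup X (Gt cs h 1)) := by
  have hup : Up cs h (Gt cs h 1) := up_gt 1
  have hc : ∀ a ∈ RGD.Sup X (RGD.Pos cs h), ∀ b ∈ RGD.Sup X (RGD.Pos cs h), ⁅a, b⁆ ∈ RGD.Sup X (Gt cs h 1) := by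
    refine comm_Sup D.hI le_rfl le_rfl hup ?_
    intro x hx y hy a ha b hb
    by_cases hxy : x = y
    · subst hxy
      rw [commutatorElement_eq_one_iff_mul_comm.2 (D.ab x hx a ha b hb)]
      exact one_mem _
    · refine comm_mem (S := Gt cs h 1) D.hI hx hy hxy (fun z hz => ⟨ib_pos hx hy hz, ?_⟩) ha hb
      have h2 := (ib_add_le hx hy hz).1
      have h3 := ht_pos' hx
      have h4 := ht_pos' hy
      omega
  refine base_rel D.t_t (D.t_Sup up_pos D.pos) (RGD.Sup_mono hup.1)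
    (D.t_Sup hup fun x hx => ⟨D.pos x hx.1, by rw [D.hh x hx.1]; exact hx.2⟩)
    (fun a ha b hb => conj_Sup D.hI hup ha hb) ?_
  intro x hx
  refine (Subgroup.iSup_induction (fun t : ↥(RGD.Pos cs h) => X t.1)
    (C := fun x => x ∈ RGD.Sup X (RGD.Pos cs h) ∧ x * x ∈ RGD.Sup X (Gt cs h 1)) hx ?_ ?_ ?_).2
  · intro t g hg
    refine ⟨RGD.le_Sup t.2 hg, ?_⟩
    rw [D.sq t.1 t.2 g hg]
    exact one_mem _
  · exact ⟨one_mem _, by rw [one_mul]; exact one_mem _⟩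
  · rintro a b ⟨h1, h2⟩ ⟨h3, h4⟩
    refine ⟨mul_mem h1 h3, ?_⟩
    have e : a * b * (a * b) = (a * a) * (a⁻¹ * ⁅b, a⁆ * a⁻¹⁻¹) * (b * b) := by
      simp only [commutatorElement_def]; group
    rw [e]
    exact mul_mem (mul_mem h2 (conj_Sup D.hI hup (inv_mem h1) (hc b h3 a h1))) h4

/-- **The fixed points in `U`.** -/
theorem fix_card [Finite W] [Finite Y] (R : RGD cs h p T n X) {q : ℕ} {Q : Set (I → ℤ)}
    (hQ : ∀ x ∈ RGD.Pos cs h, x ∈ Q → (x ≠ π x ∧ π x ∉ Q ∧ q ≤ Nat.card (X x)) ∨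
      (x = π x ∧ q ≤ Nat.card {y : Y // ∃ a ∈ X x, y = a * β a}))
    (h10 : 10 ≤ (Gt cs h 1 ∩ Q).ncard) (hq : 0 < q)
    (h6 : q ^ 6 * Nat.card (RGD.Sup X (Gt cs h 1)) ≤ Nat.card (RGD.Sup X (RGD.Pos cs h))) :
    q ^ 13 ≤ FF (tt β u) (RGD.Sup X (RGD.Pos cs h)) ⊥ := by
  have h1 := D.chain R hQ _ (Gt cs h 1) (up_gt 1)
    (fun x hx => ⟨D.pos x hx.1, by rw [D.hh x hx.1]; exact hx.2⟩) le_rfl
  have h2 := D.base_q
  set F1 := FF (tt β u) (RGD.Sup X (RGD.Pos cs h)) (RGD.Sup X (Gt cs h 1)) with hF1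
  set F0 := FF (tt β u) (RGD.Sup X (RGD.Pos cs h)) ⊥ with hF0
  set V := Nat.card (RGD.Sup X (Gt cs h 1)) with hV
  have hpos : 0 < V := Nat.card_pos
  have h3 : F1 * q ^ 10 ≤ F0 * V := le_trans (Nat.mul_le_mul_left _ (Nat.pow_le_pow_right hq h10)) h1
  have h4 : (q ^ 13 * V) ^ 2 ≤ (F0 * V) ^ 2 := by
    calc (q ^ 13 * V) ^ 2 = (q ^ 6 * V * V) * q ^ 20 := by ring
      _ ≤ (Nat.card (RGD.Sup X (RGD.Pos cs h)) * V) * q ^ 20 :=
          Nat.mul_le_mul_right _ (Nat.mul_le_mul_right _ h6)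
      _ ≤ (F1 * F1) * q ^ 20 := Nat.mul_le_mul_right _ h2
      _ = (F1 * q ^ 10) ^ 2 := by ring
      _ ≤ (F0 * V) ^ 2 := Nat.pow_le_pow_left h3 2
  have h5 : q ^ 13 * V ≤ F0 * V := (Nat.pow_le_pow_iff_left (by norm_num)).1 h4
  exact Nat.le_of_mul_le_mul_right h5 hpos

end Dat

end Beta

end Cfsg.Agent.H363.IFO
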